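import Groth.Prelude.Def_ActBC
import Groth.Agent.SchTorsor.Props
import Groth.Agent.SchTorsor.NormalExt
import Groth.Agent.GrpSchLib.AntiAffineHom
import Groth.Agent.NeronHDLib.NormalExtend
import Groth.Agent.AlgSpDec.LocFinIrred
import Mathlib.AlgebraicGeometry.Morphisms.QuasiFinite
import Mathlib.AlgebraicGeometry.Morphisms.UniversallyOpen

/-!
Sections of torsors under etale groups over a normal integral base extend from the generic point.
-/

universe u

open CategoryTheory CategoryTheory.Limits MonoidalCategory CartesianMonoidalCategory MonObj GrpObj AlgebraicGeometry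
open TopologicalSpace

set_option linter.style.haveILetI false

namespace Groth.Agent.SchTorsor.GenericExtend

theorem isReduced_of_isNormalScheme {Y : Scheme.{u}} (h : Pi1.IsNormalScheme Y) : IsReduced Y := by
  haveI : ∀ y : Y, _root_.IsReduced (Y.presheaf.stalk y) := fun y => by
    haveI := (h y).1
    infer_instance
  exact isReduced_of_isReduced_stalk Y

/-- a scheme with finitely many irreducible components and domains as local rings is locally integral -/
theorem exists_integral_open {Y : Scheme.{u}} (hfin : (irreducibleComponents Y).Finite)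
    (hd : ∀ y : Y, IsDomain (Y.presheaf.stalk y)) (y : Y) :
    ∃ W : Y.Opens, y ∈ W ∧ IsIntegral W.toScheme := by
  haveI : ∀ y : Y, _root_.IsReduced (Y.presheaf.stalk y) := fun y => by
    haveI := hd y
    infer_instance
  haveI : IsReduced Y := isReduced_of_isReduced_stalk Y
  have huniq : ∀ Z ∈ irreducibleComponents Y, y ∈ Z →
      Z = closure {Y.fromSpecStalk y (haveI := hd y; genericPoint (Spec (Y.presheaf.stalk y)))} := by
    intro Z hZ hy
    haveI := hd y
    have hZc : IsClosed Z := isClosed_of_mem_irreducibleComponents Z hZ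
    obtain ⟨z, hz⟩ := QuasiSober.sober hZ.1 hZc
    obtain ⟨z', hz'⟩ : z ∈ Set.range (Y.fromSpecStalk y) := by
      rw [Scheme.range_fromSpecStalk]
      exact hz.specializes hy
    have hsub : Z ⊆ closure {Y.fromSpecStalk y (genericPoint (Spec (Y.presheaf.stalk y)))} := by
      rw [← hz.def]
      refine closure_minimal (Set.singleton_subset_iff.2 ?_) isClosed_closure
      rw [← hz']
      exact specializes_iff_mem_closure.1 ((genericPoint_specializes z').map (Y.fromSpecStalk y).continuous)
    exact hsub.antisymm (hZ.2 isIrreducible_singleton.closure hsub)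
  obtain ⟨Z, hZ, hyZ⟩ : ∃ Z ∈ irreducibleComponents Y, y ∈ Z :=
    ⟨irreducibleComponent y, irreducibleComponent_mem_irreducibleComponents y, mem_irreducibleComponent⟩
  let W : Y.Opens := ⟨(⋃ Z' ∈ irreducibleComponents Y \ {Z}, Z')ᶜ,
    ((hfin.subset Set.diff_subset).isClosed_biUnion
      fun Z' hZ' => isClosed_of_mem_irreducibleComponents Z' hZ'.1).isOpen_compl⟩
  have hyW : y ∈ W := by
    show y ∈ (⋃ Z' ∈ irreducibleComponents Y \ {Z}, Z')ᶜ
    intro h
    obtain ⟨Z', hZ', hy'⟩ := Set.mem_iUnion₂.1 h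
    exact hZ'.2 ((huniq Z' hZ'.1 hy').trans (huniq Z hZ hyZ).symm)
  have hWZ : (W : Set Y) ⊆ Z := by
    intro w hw
    by_contra hwZ
    refine hw (Set.mem_iUnion₂.2 ⟨irreducibleComponent w,
      ⟨irreducibleComponent_mem_irreducibleComponents w, fun e => hwZ ?_⟩, mem_irreducibleComponent⟩)
    exact (Set.mem_singleton_iff.1 e) ▸ mem_irreducibleComponent
  refine ⟨W, hyW, ?_⟩
  haveI : IsReduced W.toScheme := isReduced_of_isOpenImmersion W.ι
  haveI : Nonempty W.toScheme := ⟨⟨y, hyW⟩⟩
  have hirr : IsIrreducible (W : Set Y) := by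
    refine ⟨⟨y, hyW⟩, fun u v hu hv ⟨a, ha, hau⟩ ⟨b, hb, hbv⟩ => ?_⟩
    obtain ⟨c, hc, hcu, hcv⟩ := hZ.1.2 (↑W ∩ u) (↑W ∩ v) (W.2.inter hu) (W.2.inter hv)
      ⟨a, hWZ ha, ha, hau⟩ ⟨b, hWZ hb, hb, hbv⟩
    exact ⟨c, hcu.1, hcu.2, hcv.2⟩
  haveI : IrreducibleSpace W.toScheme := Subtype.irreducibleSpace hirr
  exact isIntegral_of_irreducibleSpace_of_isReduced _

/-- every point of a scheme étale over a normal integral scheme has an integral open neighbourhood -/
theorem exists_integral_open_etale {Y S : Scheme.{u}} [IsIntegral S] (hS : Pi1.IsNormalScheme S) (f : Y ⟶ S)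
    [Etale f] (y : Y) : ∃ (W : Scheme.{u}) (i : W ⟶ Y), IsOpenImmersion i ∧ y ∈ Set.range i ∧ IsIntegral W ∧
      Pi1.IsNormalScheme W := by
  obtain ⟨A, hA, hyA, -⟩ := exists_isAffineOpen_mem_and_subset (U := (⊤ : Y.Opens)) (x := y) trivial
  have hfin : (irreducibleComponents A.toScheme).Finite := by
    refine AlgSpDec.LocFinIrred.finite_components_of_flat_lft f (fun U _ => ?_) A hA.isCompact
    by_cases hU : Nonempty (U : Type u)
    · haveI : IrreducibleSpace (U : Type u) := by
        obtain ⟨x⟩ := hU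
        exact Subtype.irreducibleSpace ⟨⟨x.1, x.2⟩,
          (PreirreducibleSpace.isPreirreducible_univ (X := S)).open_subset U.2 (Set.subset_univ _)⟩
      rw [irreducibleComponents_eq_singleton]
      exact Set.finite_singleton _
    · refine (Set.finite_empty).subset fun Z hZ => ?_
      obtain ⟨x, -⟩ := hZ.1.1
      exact hU ⟨x⟩
  have hn := NeronHDLib.isNormalScheme_of_smooth (A.ι ≫ f) hS
  obtain ⟨W, hW, hWi⟩ := exists_integral_open hfin (fun a => (hn a).1) ⟨y, hyA⟩
  exact ⟨W.toScheme, W.ι ≫ A.ι, inferInstance, ⟨⟨_, hW⟩, rfl⟩, hWi,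
    NeronHDLib.isNormalScheme_of_smooth ((W.ι ≫ A.ι) ≫ f) hS⟩

variable {S T : Scheme.{u}} [IsIntegral S] {E : Scheme.{u}} {π : E ⟶ S}
  {x : Spec (S.residueField (genericPoint S)) ⟶ E}

variable (x) in
/-- `τ` restricts to the constant `x` on all field valued points over the generic point. -/
def Ext (q : T ⟶ S) (τ : T ⟶ E) : Prop :=
  ∀ ⦃K : Type u⦄ [Field K] (z : Spec (CommRingCat.of K) ⟶ T)
    (y : Spec (CommRingCat.of K) ⟶ Spec (S.residueField (genericPoint S))),
    z ≫ q = y ≫ S.fromSpecResidueField (genericPoint S) → z ≫ τ = y ≫ x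

theorem Ext.comp {T' : Scheme.{u}} {q : T ⟶ S} {τ : T ⟶ E} (h : Ext x q τ) (g : T' ⟶ T) :
    Ext x (g ≫ q) (g ≫ τ) := fun K _ z y hz => by
  rw [← Category.assoc]
  exact h (z ≫ g) y (by rwa [Category.assoc])

theorem exists_factor (q : T ⟶ S) (p : T) (hp : q p = genericPoint S) :
    ∃ y : Spec (T.residueField p) ⟶ Spec (S.residueField (genericPoint S)),
      T.fromSpecResidueField p ≫ q = y ≫ S.fromSpecResidueField (genericPoint S) := by
  rw [← hp]
  exact ⟨_, (q.SpecMap_residueFieldMap_fromSpecResidueField p).symm⟩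

/-- Two extensions of `x` to a reduced scheme open over the base agree. -/
theorem Ext.unique [IsSeparated π] [IsReduced T] {q : T ⟶ S} (hq : IsOpenMap q) {τ τ' : T ⟶ E}
    (hτ : τ ≫ π = q) (hτ' : τ' ≫ π = q) (h : Ext x q τ) (h' : Ext x q τ') : τ = τ' := by
  let d := Sigma.desc fun p : (q ⁻¹' {genericPoint S} : Set T) => T.fromSpecResidueField p.1
  haveI : IsDominant d := by
    refine ⟨Dense.mono (fun t ht => ?_) (Dense.preimage
      (show Dense ({genericPoint S} : Set S) from dense_iff_closure_eq.2 (genericPoint_closure S)) hq)⟩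
    refine ⟨Sigma.ι (fun p : (q ⁻¹' {genericPoint S} : Set T) => Spec (T.residueField p.1)) ⟨t, ht⟩
      (IsLocalRing.closedPoint _), ?_⟩
    rw [← Scheme.Hom.comp_apply, Sigma.ι_desc]
    exact Scheme.fromSpecResidueField_apply t _
  refine ext_of_isDominant_of_isSeparated π (hτ.trans hτ'.symm) d (Sigma.hom_ext _ _ fun p => ?_)
  obtain ⟨y, hy⟩ := exists_factor q p.1 p.2
  rw [Sigma.ι_desc_assoc, Sigma.ι_desc_assoc]
  exact (h (K := T.residueField p.1) _ y hy).trans (h' (K := T.residueField p.1) _ y hy).symm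

/-- On an integral scheme étale over the base, it is enough to look at the generic point. -/
theorem ext_of_generic [IsIntegral T] (q : T ⟶ S) [LocallyQuasiFinite q] (hq : IsOpenMap q)
    {τ : T ⟶ E} (y₀ : Spec (T.residueField (genericPoint T)) ⟶ Spec (S.residueField (genericPoint S)))
    (hy₀ : T.fromSpecResidueField (genericPoint T) ≫ q = y₀ ≫ S.fromSpecResidueField (genericPoint S))
    (h : T.fromSpecResidueField (genericPoint T) ≫ τ = y₀ ≫ x) : Ext x q τ := by
  intro K _ z y hz
  let pt := IsLocalRing.closedPoint K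
  have hpη : q (z pt) = genericPoint S := by
    rw [← Scheme.Hom.comp_apply, hz, Scheme.Hom.comp_apply]
    exact Scheme.fromSpecResidueField_apply _ _
  have hgη : q (genericPoint T) = genericPoint S := by
    rw [← Scheme.fromSpecResidueField_apply (genericPoint T) (IsLocalRing.closedPoint _), ← Scheme.Hom.comp_apply,
      hy₀, Scheme.Hom.comp_apply]
    exact Scheme.fromSpecResidueField_apply _ _
  have hp : z pt = genericPoint T := by
    have hd := (q.isDiscrete_preimage_singleton (genericPoint S)).to_subtype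
    let a : ↥(q ⁻¹' {genericPoint S}) := ⟨genericPoint T, hgη⟩
    let b : ↥(q ⁻¹' {genericPoint S}) := ⟨z pt, hpη⟩
    have hss : a ⤳ b := (subtype_specializes_iff a b).2 (genericPoint_specializes _)
    exact (congrArg Subtype.val hss.eq).symm
  obtain ⟨⟨p, φ⟩, rfl⟩ : ∃ v, z = (Scheme.SpecToEquivOfField K T).symm v :=
    ⟨_, ((Scheme.SpecToEquivOfField K T).symm_apply_apply z).symm⟩
  have hp' : p = genericPoint T := by
    rw [← hp]
    exact (Scheme.fromSpecResidueField_apply _ _).symm
  subst hp'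
  have hz' : (Scheme.SpecToEquivOfField K T).symm ⟨genericPoint T, φ⟩ =
      Spec.map φ ≫ T.fromSpecResidueField (genericPoint T) := rfl
  rw [hz'] at hz ⊢
  rw [Category.assoc, hy₀, ← Category.assoc, cancel_mono] at hz
  rw [Category.assoc, h, ← hz, Category.assoc]

variable {k : Type u} [Field k] {G : Over (Spec (CommRingCat.of k))} [GrpObj G] [Etale G.hom]
  {s : S ⟶ Spec (CommRingCat.of k)} {X : Over S}

/-- A point of the group over the generic point of an integral normal scheme extends. -/
theorem exists_group_point {W : Scheme.{u}} [IsIntegral W] (hW : Pi1.IsNormalScheme W) (q : W ⟶ S)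
    (g : Spec (W.residueField (genericPoint W)) ⟶ G.left)
    (hg : g ≫ G.hom = W.fromSpecResidueField (genericPoint W) ≫ q ≫ s) :
    ∃ h : W ⟶ G.left, h ≫ G.hom = q ≫ s ∧ W.fromSpecResidueField (genericPoint W) ≫ h = g := by
  let gam := g (IsLocalRing.closedPoint _)
  haveI : DiscreteTopology G.left := by
    have h1 := G.hom.isDiscrete_preimage_singleton (IsLocalRing.closedPoint k)
    have h2 : G.hom ⁻¹' {IsLocalRing.closedPoint k} = Set.univ :=
      Set.eq_univ_of_forall fun a => Subsingleton.elim (G.hom a) _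
    have h4 : _root_.IsDiscrete (Set.univ : Set G.left) := h2 ▸ h1
    haveI := h4.to_subtype
    exact (Homeomorph.Set.univ G.left).discreteTopology
  let P : G.left.Opens := ⟨{gam}, isOpen_discrete _⟩
  haveI : CompactSpace P.toScheme := isCompact_iff_compactSpace.1 (isCompact_singleton (x := gam))
  haveI : QuasiCompact (P.ι ≫ G.hom) := (quasiCompact_iff_compactSpace _).2 inferInstance
  haveI : IsFinite (P.ι ≫ G.hom) := IsFinite.of_locallyQuasiFinite _
  have hrange : Set.range g ⊆ Set.range P.ι := by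
    rw [Scheme.Opens.range_ι]
    rintro _ ⟨a, rfl⟩
    exact congrArg g (Subsingleton.elim a (IsLocalRing.closedPoint _))
  let g₀ := IsOpenImmersion.lift P.ι g hrange
  have hg₀ : g₀ ≫ P.ι = g := IsOpenImmersion.lift_fac _ _ _
  haveI : IsIso (W.residue (genericPoint W)) := by
    refine (ConcreteCategory.isIso_iff_bijective _).2 ⟨?_, W.residue_surjective _⟩
    exact RingHom.injective (R := W.functionField) (W.residue (genericPoint W)).hom
  let η' : Spec W.functionField ⟶ Spec (W.residueField (genericPoint W)) :=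
    Spec.map (inv (W.residue (genericPoint W)))
  have hη' : η' ≫ W.fromSpecResidueField (genericPoint W) = W.fromSpecStalk (genericPoint W) := by
    rw [Scheme.fromSpecResidueField, ← Spec.map_comp_assoc, IsIso.hom_inv_id, Spec.map_id, Category.id_comp]
  let t : Spec W.functionField ⟶ pullback (P.ι ≫ G.hom) (q ≫ s) :=
    pullback.lift (η' ≫ g₀) (W.fromSpecStalk (genericPoint W)) (by
      rw [Category.assoc, reassoc_of% hg₀, hg, reassoc_of% hη'])
  obtain ⟨σ, hσ, hσt⟩ := SchTorsor.exists_section_of_normal hW (pullback.snd (P.ι ≫ G.hom) (q ≫ s)) t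
    (pullback.lift_snd _ _ _)
  refine ⟨σ ≫ pullback.fst _ _ ≫ P.ι, ?_, ?_⟩
  · rw [Category.assoc, Category.assoc, pullback.condition, reassoc_of% hσ]
  · rw [← cancel_epi η', ← hg₀, reassoc_of% hη', reassoc_of% hσt]
    exact pullback.lift_fst_assoc _ _ _ _

variable {a : AlgGrp.Action (Red.bc s G) X} {xg : Spec (S.residueField (genericPoint S)) ⟶ X.left}

/-- The constant extension on an integral scheme étale over the base, mapped to the torsor. -/
theorem exists_ext_integral (ha : NonAbH1.IsPseudoTorsorSch a)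
    (hxg : xg ≫ X.hom = S.fromSpecResidueField (genericPoint S))
    {W : Scheme.{u}} [IsIntegral W] (hW : Pi1.IsNormalScheme W) (i : W ⟶ X.left) [Etale (i ≫ X.hom)] :
    ∃ τ : W ⟶ X.left, τ ≫ X.hom = i ≫ X.hom ∧ Ext xg (i ≫ X.hom) τ := by
  let q := i ≫ X.hom
  have hqo : IsOpenMap q := q.isOpenMap
  have hgη : q (genericPoint W) = genericPoint S := by
    obtain ⟨w, -, hw⟩ := (genericPoint_spec S).mem_open_set_iff (hqo _ isOpen_univ) |>.2
      ⟨q (genericPoint W), trivial, ⟨_, trivial, rfl⟩⟩
    have h1 : q (genericPoint W) ⤳ genericPoint S := hw ▸ (genericPoint_specializes w).map q.continuous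
    exact (h1.antisymm (genericPoint_specializes _)).eq
  obtain ⟨y₀, hy₀⟩ := exists_factor q (genericPoint W) hgη
  let T : Over S := Over.mk q
  let T' : Over S := Over.mk (W.fromSpecResidueField (genericPoint W) ≫ q)
  let j : T' ⟶ T := Over.homMk (W.fromSpecResidueField (genericPoint W)) rfl
  let ii : T ⟶ X := Over.homMk i rfl
  let xx : T' ⟶ X := Over.homMk (y₀ ≫ xg) (by
    show (y₀ ≫ xg) ≫ X.hom = W.fromSpecResidueField (genericPoint W) ≫ q
    rw [Category.assoc, hxg, hy₀])
  obtain ⟨g, hg⟩ := SchTorsor.exists_div ha xx (j ≫ ii)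
  have hgw : (g.left ≫ pullback.fst G.hom s) ≫ G.hom = W.fromSpecResidueField (genericPoint W) ≫ q ≫ s := by
    rw [Category.assoc, pullback.condition, ← Category.assoc]
    exact (congrArg (· ≫ s) (Over.w g)).trans (Category.assoc _ _ _)
  obtain ⟨h, hh, hhg⟩ := exists_group_point hW q (g.left ≫ pullback.fst G.hom s) hgw
  let hh' : T ⟶ Red.bc s G := Over.homMk (pullback.lift h q hh) (pullback.lift_snd _ _ _)
  have hj : j ≫ hh' = g := by
    refine Over.OverMorphism.ext (pullback.hom_ext ?_ ?_)
    · show (W.fromSpecResidueField (genericPoint W) ≫ pullback.lift h q hh) ≫ pullback.fst _ _ = _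
      rw [Category.assoc, pullback.lift_fst, hhg]
    · show (W.fromSpecResidueField (genericPoint W) ≫ pullback.lift h q hh) ≫ pullback.snd _ _ = _
      rw [Category.assoc, pullback.lift_snd]
      exact (Over.w g).symm
  let τ : T ⟶ X := lift hh' ii ≫ a.act
  refine ⟨τ.left, Over.w τ, ext_of_generic q hqo y₀ hy₀ ?_⟩
  have h1 : j ≫ τ = xx := by
    rw [← hg, ← hj]
    simp [τ, comp_lift_assoc]
  exact congrArg CommaMorphism.left h1

/-- A point of a torsor under an étale group over the generic point of a normal integral scheme extends to a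
section. -/
theorem exists_section (hS : Pi1.IsNormalScheme S) (ha : NonAbH1.IsTorsorFor Scheme.fpqcPrecoverage a)
    (hxg : xg ≫ X.hom = S.fromSpecResidueField (genericPoint S)) :
    ∃ σ : S ⟶ X.left, σ ≫ X.hom = 𝟙 S ∧ S.fromSpecResidueField (genericPoint S) ≫ σ = xg := by
  haveI := GrpSchLib.AntiAffine.isSeparated_grp G
  haveI := EtFound.fpqc_isSeparated.{u}
  haveI hGe : Etale (Red.bc s G).hom := inferInstanceAs (Etale (pullback.snd G.hom s))
  haveI : IsSeparated X.hom :=
    SchTorsor.torsor_property @IsSeparated ha (inferInstanceAs (IsSeparated (pullback.snd G.hom s)))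
  haveI : Etale X.hom := SchTorsor.torsor_property @Etale ha hGe
  haveI : Surjective X.hom := SchTorsor.surjective_hom ha
  choose W i hi hmem hWi hWn using fun e : X.left => exists_integral_open_etale hS X.hom e
  haveI : ∀ e, IsOpenImmersion (i e) := hi
  haveI : ∀ e, IsIntegral (W e) := hWi
  choose τ hτ hext using fun e : X.left => exists_ext_integral (s := s) (a := a) ha.1 hxg (hWn e) (i e)
  let 𝒰 : X.left.OpenCover :=
    { I₀ := X.left
      X := W
      f := i
      mem₀ := by
        rw [Scheme.ofArrows_mem_precoverage_iff]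
        exact ⟨fun e => ⟨e, hmem e⟩, fun e => inferInstance⟩ }
  have hc : ∀ e f, pullback.fst (𝒰.f e) (𝒰.f f) ≫ τ e = pullback.snd (𝒰.f e) (𝒰.f f) ≫ τ f := by
    intro e f
    let Q : pullback (i e) (i f) ⟶ S := pullback.fst (i e) (i f) ≫ i e ≫ X.hom
    have hQ : Q = pullback.snd (i e) (i f) ≫ i f ≫ X.hom := by
      show pullback.fst (i e) (i f) ≫ i e ≫ X.hom = _
      rw [← Category.assoc, pullback.condition, Category.assoc]
    haveI : Etale Q := inferInstanceAs (Etale (pullback.fst (i e) (i f) ≫ i e ≫ X.hom))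
    haveI := isReduced_of_isNormalScheme (NeronHDLib.isNormalScheme_of_smooth Q hS)
    refine Ext.unique (π := X.hom) (x := xg) Q.isOpenMap ?_ ?_ ((hext e).comp _) ?_
    · rw [Category.assoc, hτ]
    · rw [Category.assoc, hτ, hQ]
    · rw [hQ]
      exact (hext f).comp _
  let τ₀ := 𝒰.glueMorphisms τ hc
  have hτ₀ : ∀ e, i e ≫ τ₀ = τ e := fun e => Scheme.Cover.ι_glueMorphisms 𝒰 τ hc e
  have hw : τ₀ ≫ X.hom = X.hom := 𝒰.hom_ext _ _ fun e => by
    show i e ≫ τ₀ ≫ X.hom = i e ≫ X.hom
    rw [← Category.assoc, hτ₀, hτ]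
  have hext₀ : Ext xg X.hom τ₀ := by
    intro K _ z y hz
    let p := z (IsLocalRing.closedPoint K)
    have hsub : Set.range z ⊆ Set.range (i p) := by
      rintro _ ⟨b, rfl⟩
      rw [Subsingleton.elim b (IsLocalRing.closedPoint K)]
      exact hmem p
    have hl := IsOpenImmersion.lift_fac (i p) z hsub
    rw [← hl] at hz ⊢
    rw [Category.assoc, hτ₀]
    exact hext p _ y (by rwa [Category.assoc] at hz)
  let f : X ⟶ X := Over.homMk τ₀ hw
  have hinv : a.act ≫ f = snd (Red.bc s G) X ≫ f := by
    refine Over.OverMorphism.ext ?_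
    haveI : Etale (Red.bc s G ⊗ X).hom :=
      inferInstanceAs (Etale (pullback.fst (Red.bc s G).hom X.hom ≫ (Red.bc s G).hom))
    haveI := isReduced_of_isNormalScheme (NeronHDLib.isNormalScheme_of_smooth (Red.bc s G ⊗ X).hom hS)
    refine Ext.unique (π := X.hom) (x := xg) (Red.bc s G ⊗ X).hom.isOpenMap (Over.w _) (Over.w _) ?_ ?_
    · have h1 := hext₀.comp a.act.left
      rw [Over.w] at h1
      exact h1
    · have h1 := hext₀.comp (snd (Red.bc s G) X).left
      rw [Over.w] at h1
      exact h1
  obtain ⟨χ, hχ, -⟩ := SchTorsor.existsUnique_desc ha f hinv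
  refine ⟨χ.left, Over.w χ, ?_⟩
  obtain ⟨e, he⟩ := X.hom.surjective (genericPoint S)
  obtain ⟨y, hy⟩ := exists_factor X.hom e he
  haveI : Flat y := by
    obtain ⟨φ, rfl⟩ := Spec.map_surjective y
    infer_instance
  haveI : Surjective y := ⟨fun _ => ⟨IsLocalRing.closedPoint _, Subsingleton.elim _ _⟩⟩
  haveI : Epi y := Flat.epi_of_flat_of_surjective y
  have h2 : X.hom ≫ χ.left = τ₀ := by
    have : (toUnit X).left = X.hom := by
      rw [← Over.w (toUnit X)]
      exact (Category.comp_id _).symm
    rw [← this]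
    exact congrArg CommaMorphism.left hχ
  rw [← cancel_epi y, ← Category.assoc, ← hy, Category.assoc, h2]
  exact hext₀ (K := X.left.residueField e) _ y hy

end Groth.Agent.SchTorsor.GenericExtend
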